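import Cfsg.Agent.ThetaSeries.Lattice

/-! Theta series of rootless even unimodular forms of rank twenty four. -/

set_option autoImplicit false

open Matrix UpperHalfPlane ModularForm EisensteinSeries
open scoped MatrixGroups ArithmeticFunction.sigma

namespace Cfsg.ThetaSeries

lemma E₄_coeffs :
    (qExpansion 1 E₄).coeff 2 = 2160 ∧ (qExpansion 1 E₄).coeff 3 = 6720 ∧
      (qExpansion 1 E₄).coeff 4 = 17520 := by
  have h2 : σ 3 2 = 9 := by decide +kernel
  have h3 : σ 3 3 = 28 := by decide +kernel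
  have h4 : σ 3 4 = 73 := by decide +kernel
  have hb : bernoulli 4 = -1 / 30 := by decide +kernel
  refine ⟨?_, ?_, ?_⟩ <;> norm_num [E_qExpansion_coeff _ ⟨2, rfl⟩, hb, h2, h3, h4]

lemma E₆_coeffs :
    (qExpansion 1 E₆).coeff 2 = -16632 ∧ (qExpansion 1 E₆).coeff 3 = -122976 ∧
      (qExpansion 1 E₆).coeff 4 = -532728 := by
  have h2 : σ 5 2 = 33 := by decide +kernel
  have h3 : σ 5 3 = 244 := by decide +kernel
  have h4 : σ 5 4 = 1057 := by decide +kernel
  have hb : bernoulli 6 = 1 / 42 := by decide +kernel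
  refine ⟨?_, ?_, ?_⟩ <;> norm_num [E_qExpansion_coeff _ ⟨3, rfl⟩, hb, h2, h3, h4]

/-- The weight twelve form with expansion `1 + O(q²)`. -/
noncomputable def extremalForm : ModularForm 𝒮ℒ ((12 : ℕ) : ℤ) :=
  (7 / 12 : ℂ) • ModularForm.mcast (by decide) (E₄.pow 3) +
    (5 / 12 : ℂ) • ModularForm.mcast (by decide) (E₆.pow 2)

lemma extremalForm_qExpansion :
    qExpansion 1 extremalForm =
      (7 / 12 : ℂ) • (qExpansion 1 E₄ * qExpansion 1 E₄ * qExpansion 1 E₄) +
        (5 / 12 : ℂ) • (qExpansion 1 E₆ * qExpansion 1 E₆) := by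
  rw [extremalForm, FunLike.coe_add,
    ModularForm.qExpansion_add one_pos one_mem_strictPeriods_SL, FunLike.coe_smul, FunLike.coe_smul,
    ModularForm.qExpansion_smul one_pos one_mem_strictPeriods_SL,
    ModularForm.qExpansion_smul one_pos one_mem_strictPeriods_SL,
    ModularForm.qExpansion_mcast, ModularForm.qExpansion_mcast,
    ModularForm.qExpansion_pow one_pos one_mem_strictPeriods_SL,
    ModularForm.qExpansion_pow one_pos one_mem_strictPeriods_SL, pow_succ, pow_two, pow_two]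

lemma extremalForm_coeffs :
    (qExpansion 1 extremalForm).coeff 0 = 1 ∧ (qExpansion 1 extremalForm).coeff 1 = 0 ∧
    (qExpansion 1 extremalForm).coeff 2 = 196560 ∧
    (qExpansion 1 extremalForm).coeff 3 = 16773120 ∧
    (qExpansion 1 extremalForm).coeff 4 = 398034000 := by
  obtain ⟨a2, a3, a4⟩ := E₄_coeffs
  obtain ⟨b2, b3, b4⟩ := E₆_coeffs
  have a0 : (qExpansion 1 E₄).coeff 0 = 1 := E_qExpansion_coeff_zero _ ⟨2, rfl⟩
  have b0 : (qExpansion 1 E₆).coeff 0 = 1 := E_qExpansion_coeff_zero _ ⟨3, rfl⟩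
  refine ⟨?_, ?_, ?_, ?_, ?_⟩ <;>
    norm_num [extremalForm_qExpansion, PowerSeries.coeff_mul, Finset.Nat.antidiagonal_succ,
      a0, a2, a3, a4, b0, b2, b3, b4, E₄_qExpansion_coeff_one, E₆_qExpansion_coeff_one,
      -PowerSeries.coeff_zero_eq_constantCoeff]

theorem rootless_counts {B : Matrix (Fin 24) (Fin 24) ℤ} (hB : IsEvenUnimodular B)
    (h2 : ∀ x : Fin 24 → ℤ, x ⬝ᵥ (B *ᵥ x) ≠ 2) (m : ℕ) :
    (repCount B m : ℂ) = (qExpansion 1 extremalForm).coeff m := by
  have hk : Fintype.card (Fin 24) = 2 * 12 := by simp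
  have h4 : 4 ∣ 12 := by decide
  obtain ⟨e0, e1, -⟩ := extremalForm_coeffs
  have hc : ∀ j, j ≤ 1 →
      (qExpansion 1 (thetaForm hB hk h4)).coeff j = (qExpansion 1 extremalForm).coeff j := by
    intro j hj
    rw [thetaForm_qExpansion_coeff]
    interval_cases j
    · rw [repCount_zero hB, e0, Nat.cast_one]
    · have : repCount B 1 = 0 := by
        rw [repCount, Set.ncard_eq_zero (finite_norm_eq hB.toIsUnimodularForm _)]
        exact Set.eq_empty_of_forall_notMem fun x hx => h2 x hx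
      rw [this, e1, Nat.cast_zero]
  have hzero : thetaForm hB hk h4 - extremalForm = 0 := by
    refine sturm_bound_levelOne_nat ?_
    rw [FunLike.coe_sub, ModularForm.qExpansion_sub one_pos one_mem_strictPeriods_SL]
    refine lt_of_lt_of_le (b := ((2 : ℕ) : ℕ∞)) (by norm_num) (PowerSeries.nat_le_order _ _ ?_)
    intro j hj
    rw [map_sub, hc j (by omega), sub_self]
  rw [← thetaForm_qExpansion_coeff hB hk h4 m, sub_eq_zero.1 hzero]

end Cfsg.ThetaSeries
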