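import Cfsg.Agent.ThetaSeries.Periodize

/-! The transformation formula of the Gaussian lattice sum of a unimodular form. -/

set_option autoImplicit false
set_option linter.unusedSectionVars false

open MeasureTheory Complex Matrix
open scoped Real MatrixOrder

namespace Cfsg.ThetaSeries

variable {ι : Type*} [Fintype ι] [DecidableEq ι]

/-- A positive symmetric unimodular integral form. -/
structure IsUnimodularForm (A : Matrix ι ι ℤ) : Prop where
  symm : A.IsSymm
  pos : ∀ x : ι → ℤ, x ≠ 0 → 0 < x ⬝ᵥ (A *ᵥ x)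
  det_eq : A.det = 1

/-- The value of the form on an integral vector. -/
def qform (A : Matrix ι ι ℤ) (n : ι → ℤ) : ℤ := n ⬝ᵥ (A *ᵥ n)

/-- The real extension of the form. -/
def qformR (A : Matrix ι ι ℤ) (x : ι → ℝ) : ℝ := x ⬝ᵥ (A.map (Int.cast : ℤ → ℝ) *ᵥ x)

variable {A : Matrix ι ι ℤ}

lemma qform_cast (n : ι → ℤ) : (qform A n : ℝ) = qformR A (castVec n) := by
  simp [qform, qformR, dotProduct, mulVec, castVec]

lemma qform_nonneg (hA : IsUnimodularForm A) (n : ι → ℤ) : 0 ≤ qform A n := by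
  rcases eq_or_ne n 0 with rfl | h
  · simp [qform]
  · exact (hA.pos n h).le

lemma continuous_qformR : Continuous (qformR A) := by
  unfold qformR dotProduct mulVec
  simp only [dotProduct]
  fun_prop

lemma qformR_nonneg (hA : IsUnimodularForm A) (x : ι → ℝ) : 0 ≤ qformR A x := by
  have hd : DenseRange (Pi.map fun (_ : ι) (q : ℚ) => (q : ℝ)) :=
    DenseRange.piMap fun _ => Rat.denseRange_cast
  refine hd.induction_on x (isClosed_le continuous_const continuous_qformR) fun q => ?_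
  let N : ℕ := ∏ i, (q i).den
  have hN : (0 : ℝ) < N := by
    exact_mod_cast Finset.prod_pos fun i _ => (q i).den_pos
  let n : ι → ℤ := fun i => (q i).num * ((∏ j ∈ Finset.univ.erase i, (q j).den : ℕ) : ℤ)
  have hn : castVec n = (N : ℝ) • Pi.map (fun (_ : ι) (r : ℚ) => (r : ℝ)) q := by
    funext i
    have e : N = (q i).den * ∏ j ∈ Finset.univ.erase i, (q j).den :=
      (Finset.mul_prod_erase _ _ (Finset.mem_univ i)).symm
    simp only [castVec, n, Pi.smul_apply, Pi.map_apply, smul_eq_mul, e, Rat.cast_def (q i)]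
    push_cast
    field_simp [(Nat.cast_ne_zero.2 (q i).den_nz : ((q i).den : ℝ) ≠ 0)]
  have h := qform_nonneg hA n
  have h' : (0 : ℝ) ≤ qformR A (castVec n) := by
    rw [← qform_cast]; exact_mod_cast h
  rw [hn] at h'
  simp only [qformR, mulVec_smul, dotProduct_smul, smul_dotProduct, smul_eq_mul] at h'
  exact (mul_nonneg_iff_of_pos_left hN).1 ((mul_nonneg_iff_of_pos_left hN).1 h')

lemma exists_factor (hA : IsUnimodularForm A) :
    ∃ M : Matrix ι ι ℝ, A.map (Int.cast : ℤ → ℝ) = Mᵀ * M ∧ M.det * M.det = 1 := by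
  have hS : (A.map (Int.cast : ℤ → ℝ)).PosSemidef := by
    refine Matrix.PosSemidef.of_dotProduct_mulVec_nonneg ?_ fun x => ?_
    · show (A.map (Int.cast : ℤ → ℝ))ᴴ = _
      rw [conjTranspose_eq_transpose_of_trivial, ← transpose_map, hA.symm.eq]
    · simpa [qformR] using qformR_nonneg hA x
  set S := A.map (Int.cast : ℤ → ℝ) with hSdef
  have hn := CFC.sqrt_mul_sqrt_self S hS.nonneg
  have ht : (CFC.sqrt S)ᵀ = CFC.sqrt S := by
    rw [← conjTranspose_eq_transpose_of_trivial]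
    exact (CFC.sqrt_nonneg S).posSemidef.1
  refine ⟨CFC.sqrt S, by rw [ht, hn], ?_⟩
  rw [← det_mul, hn, hSdef]
  have : (A.map (Int.cast : ℤ → ℝ)) = (Int.castRingHom ℝ).mapMatrix A := rfl
  rw [this, ← RingHom.map_det, hA.det_eq, map_one]

lemma qformR_eq_sum_sq {M : Matrix ι ι ℝ} (hM : A.map (Int.cast : ℤ → ℝ) = Mᵀ * M) (x : ι → ℝ) :
    qformR A x = ∑ i, (M *ᵥ x) i ^ 2 := by
  rw [qformR, hM, ← mulVec_mulVec, dotProduct_mulVec, vecMul_transpose]
  simp [dotProduct, sq]

lemma exists_lower_bound (hA : IsUnimodularForm A) :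
    ∃ c : ℝ, 0 < c ∧ ∀ x : ι → ℝ, c * ∑ i, x i ^ 2 ≤ qformR A x := by
  obtain ⟨M, hM, hdet⟩ := exists_factor hA
  have hu : IsUnit M.det := IsUnit.of_mul_eq_one _ hdet
  set K : ℝ := ∑ i, ∑ j, M⁻¹ i j ^ 2 with hK
  have hK0 : 0 ≤ K := Finset.sum_nonneg fun i _ => Finset.sum_nonneg fun j _ => sq_nonneg _
  refine ⟨1 / (K + 1), by positivity, fun x => ?_⟩
  rw [qformR_eq_sum_sq hM, div_mul_eq_mul_div, one_mul, div_le_iff₀ (by positivity)]
  have h : ∀ i, x i ^ 2 ≤ (∑ j, M⁻¹ i j ^ 2) * ∑ j, (M *ᵥ x) j ^ 2 := by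
    intro i
    have e : x i = ∑ j, M⁻¹ i j * (M *ᵥ x) j := by
      have : M⁻¹ *ᵥ (M *ᵥ x) = x := by rw [mulVec_mulVec, nonsing_inv_mul _ hu, one_mulVec]
      exact (congrFun this i).symm
    rw [e]
    exact Finset.sum_mul_sq_le_sq_mul_sq _ _ _
  have h2 := Finset.sum_le_sum fun i (_ : i ∈ Finset.univ) => h i
  rw [← Finset.sum_mul] at h2
  have h3 : 0 ≤ ∑ j, (M *ᵥ x) j ^ 2 := Finset.sum_nonneg fun j _ => sq_nonneg _
  nlinarith

lemma summable_exp_neg_mul_int_sq {a : ℝ} (ha : 0 < a) :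
    Summable fun k : ℤ => Real.exp (-(a * (k : ℝ) ^ 2)) := by
  have h := summable_pow_mul_jacobiTheta₂_term_bound 0 (T := a / π) (div_pos ha Real.pi_pos) 0
  refine h.congr fun k => ?_
  simp only [pow_zero, one_mul, mul_zero, zero_mul, sub_zero]
  congr 1
  field_simp

lemma summable_fin_prod {f : ℤ → ℝ} (h0 : ∀ k, 0 ≤ f k) (hf : Summable f) :
    ∀ d : ℕ, Summable fun v : Fin d → ℤ => ∏ i, f (v i)
  | 0 => Summable.of_finite
  | d + 1 => by
    have h := Summable.mul_of_nonneg hf (summable_fin_prod h0 hf d) h0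
      (fun v => Finset.prod_nonneg fun i _ => h0 _)
    rw [← (Fin.consEquiv fun _ : Fin (d + 1) => ℤ).summable_iff]
    refine h.congr fun p => ?_
    simp [Fin.consEquiv, Fin.prod_univ_succ]

lemma summable_pi_prod {f : ℤ → ℝ} (h0 : ∀ k, 0 ≤ f k) (hf : Summable f) :
    Summable fun v : ι → ℤ => ∏ i, f (v i) := by
  let e : (Fin (Fintype.card ι) → ℤ) ≃ (ι → ℤ) :=
    Equiv.arrowCongr (Fintype.equivFin ι).symm (Equiv.refl ℤ)
  rw [← e.summable_iff]
  refine (summable_fin_prod h0 hf _).congr fun v => ?_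
  simp only [Function.comp_apply, e]
  exact (Fintype.prod_equiv (Fintype.equivFin ι) _ _ fun i => by simp).symm

lemma exists_gauss_bound (hA : IsUnimodularForm A) {s : ℝ} (hs : 0 < s) (R : ℝ) :
    ∃ u : (ι → ℤ) → ℝ, Summable u ∧
      ∀ x : ι → ℝ, ‖x‖ ≤ R → ∀ n, Real.exp (-(s * qformR A (x + castVec n))) ≤ u n := by
  obtain ⟨c, hc, hQ⟩ := exists_lower_bound hA
  refine ⟨fun n => Real.exp (s * c * (Fintype.card ι * R ^ 2)) *
      ∏ i, Real.exp (-(s * c / 2 * (n i : ℝ) ^ 2)), ?_, fun x hx n => ?_⟩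
  · exact (summable_pi_prod (fun k => (Real.exp_pos _).le)
      (summable_exp_neg_mul_int_sq (by positivity))).mul_left _
  · dsimp only
    rw [← Real.exp_sum, ← Real.exp_add, Real.exp_le_exp, Finset.sum_neg_distrib]
    have h1 := hQ (x + castVec n)
    have h2 : ∑ i, ((n i : ℝ) ^ 2 / 2 - R ^ 2) ≤ ∑ i, (x + castVec n) i ^ 2 := by
      refine Finset.sum_le_sum fun i _ => ?_
      have hxi : |x i| ≤ R := by
        rw [← Real.norm_eq_abs]; exact (norm_le_pi_norm x i).trans hx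
      have : x i ^ 2 ≤ R ^ 2 := sq_le_sq' (abs_le.1 hxi).1 (abs_le.1 hxi).2
      simp only [Pi.add_apply, castVec]
      nlinarith [sq_nonneg (2 * x i + (n i : ℝ))]
    rw [Finset.sum_sub_distrib, ← Finset.sum_div, Finset.sum_const, Finset.card_univ,
      nsmul_eq_mul] at h2
    rw [← Finset.mul_sum]
    nlinarith [mul_le_mul_of_nonneg_left (le_trans (mul_le_mul_of_nonneg_left h2 hc.le) h1) hs.le]

lemma norm_cexp_neg_mul (b : ℂ) (q : ℝ) : ‖cexp (-b * (q : ℂ))‖ = Real.exp (-(b.re * q)) := by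
  rw [Complex.norm_exp]
  simp

lemma summable_gauss (hA : IsUnimodularForm A) {b : ℂ} (hb : 0 < b.re) :
    Summable fun n : ι → ℤ => cexp (-b * (qform A n : ℂ)) := by
  obtain ⟨u, hu, hu'⟩ := exists_gauss_bound hA hb 0
  refine hu.of_norm_bounded fun n => ?_
  have := hu' 0 (by simp) n
  rw [zero_add, ← qform_cast] at this
  rwa [← ofReal_intCast, norm_cexp_neg_mul]

/-- The integral equivalence given by a unimodular matrix. -/
def unimodEquiv (hA : IsUnimodularForm A) : (ι → ℤ) ≃ (ι → ℤ) where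
  toFun n := A *ᵥ n
  invFun m := A.adjugate *ᵥ m
  left_inv n := by simp [mulVec_mulVec, adjugate_mul, hA.det_eq]
  right_inv m := by simp [mulVec_mulVec, mul_adjugate, hA.det_eq]

/-- Poisson summation for the Gaussian of a unimodular form. -/
theorem gauss_transform (hA : IsUnimodularForm A) {k : ℕ} (hk : Fintype.card ι = 2 * k)
    {b : ℂ} (hb : 0 < b.re) :
    ∑' n : ι → ℤ, cexp (-b * (qform A n : ℂ)) =
      ((π : ℂ) / b) ^ k * ∑' n : ι → ℤ, cexp (-((π : ℂ) ^ 2 / b) * (qform A n : ℂ)) := by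
  obtain ⟨M, hM, hdet⟩ := exists_factor hA
  have hu : IsUnit M.det := IsUnit.of_mul_eq_one _ hdet
  have habs : |M.det⁻¹| = 1 := by
    have : |M.det| = 1 := by
      nlinarith [abs_mul_abs_self M.det, abs_nonneg M.det]
    rw [abs_inv, this, inv_one]
  let L : (ι → ℝ) ≃ₗ[ℝ] (ι → ℝ) :=
    Matrix.toLin'OfInv (nonsing_inv_mul M hu) (mul_nonsing_inv M hu)
  have hemb : MeasurableEmbedding fun x : ι → ℝ => M *ᵥ x :=
    have e : (fun x : ι → ℝ => M *ᵥ x) = ⇑L.toContinuousLinearEquiv.toHomeomorph := by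
      funext x
      simp [L, Matrix.toLin'OfInv]
    e ▸ L.toContinuousLinearEquiv.toHomeomorph.measurableEmbedding
  have hmp : MeasurePreserving (fun x : ι → ℝ => M *ᵥ x) volume volume := by
    refine ⟨hemb.measurable, ?_⟩
    have h := Real.map_matrix_volume_pi_eq_smul_volume_pi (M := M) hu.ne_zero
    rw [habs, ENNReal.ofReal_one, one_smul] at h
    exact h
  set g : (ι → ℝ) → ℂ := fun x => cexp (-b * (qformR A x : ℂ)) with hg
  have hgM : g = (fun v => cexp (-b * ∑ i, (v i : ℂ) ^ 2)) ∘ fun x => M *ᵥ x := by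
    funext x
    simp only [hg, Function.comp_apply, qformR_eq_sum_sq hM x, ofReal_sum, ofReal_pow]
  have hgint : Integrable g := by
    rw [hgM, hmp.integrable_comp_emb hemb]
    simpa using GaussianFourier.integrable_cexp_neg_mul_sum_add hb (0 : ι → ℂ)
  have hgc : Continuous g := by
    have := continuous_qformR (A := A)
    fun_prop
  have hcoef : ∀ n : ι → ℤ, ∫ x : ι → ℝ, latChar (unimodEquiv hA n) x * g x =
      ((π : ℂ) / b) ^ k * cexp (-((π : ℂ) ^ 2 / b) * (qform A n : ℂ)) := by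
    intro n
    set w : ι → ℝ := M *ᵥ castVec n with hw
    have hm : castVec (unimodEquiv hA n) = Mᵀ *ᵥ w := by
      rw [hw, mulVec_mulVec, ← hM]
      funext i
      simp [unimodEquiv, castVec, mulVec, dotProduct]
    have hint : ∀ x, latChar (unimodEquiv hA n) x * g x =
        cexp (-b * ∑ i, (((M *ᵥ x) i : ℝ) : ℂ) ^ 2 +
          ∑ i, (-(2 * π * I) * (w i : ℂ)) * ((M *ᵥ x) i : ℝ)) := by
      intro x
      have e : ∑ i, ((unimodEquiv hA n i : ℤ) : ℂ) * (x i : ℂ) =
          ∑ i, (w i : ℂ) * ((M *ᵥ x) i : ℝ) := by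
        have h : castVec (unimodEquiv hA n) ⬝ᵥ x = w ⬝ᵥ (M *ᵥ x) := by
          rw [hm, dotProduct_mulVec w M x, mulVec_transpose]
        have h' := congrArg (fun r : ℝ => (r : ℂ)) h
        simpa [dotProduct, castVec] using h'
      rw [hgM, Function.comp_apply, latChar, e, ← Complex.exp_add, Finset.mul_sum]
      congr 1
      rw [add_comm]
      simp [mul_assoc]
    simp only [hint]
    rw [hmp.integral_comp hemb fun v : ι → ℝ => cexp (-b * ∑ i, (v i : ℂ) ^ 2 +
      ∑ i, (-(2 * π * I) * (w i : ℂ)) * (v i : ℂ)),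
      GaussianFourier.integral_cexp_neg_mul_sum_add hb, hk]
    congr 1
    · rw [show (((2 * k : ℕ) : ℂ) / 2) = (k : ℂ) by push_cast; ring, cpow_natCast]
    · congr 1
      have e : (qform A n : ℂ) = ∑ i, (w i : ℂ) ^ 2 := by
        rw [← ofReal_intCast, qform_cast, qformR_eq_sum_sq hM, ofReal_sum]
        simp [hw]
      rw [e, Finset.mul_sum, Finset.sum_div]
      refine Finset.sum_congr rfl fun i _ => ?_
      have hb0 : b ≠ 0 := fun h => by simp [h] at hb
      field_simp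
      ring_nf
      rw [I_sq]
      ring
  have hb2 : 0 < ((π : ℂ) ^ 2 / b).re := by
    rw [← ofReal_pow, div_re]
    simp only [ofReal_re, ofReal_im, zero_mul, zero_div, add_zero]
    have : 0 < normSq b := normSq_pos.2 fun h => by simp [h] at hb
    positivity
  have hP := poisson_summation_pi g hgc hgint (fun R => by
      obtain ⟨u, hu1, hu2⟩ := exists_gauss_bound hA hb R
      exact ⟨u, hu1, fun x hx n => (norm_cexp_neg_mul b _).le.trans (hu2 x hx n)⟩) (by
      rw [← (unimodEquiv hA).summable_iff]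
      simpa only [Function.comp_def, hcoef] using (summable_gauss hA hb2).mul_left _)
  rw [← (unimodEquiv hA).tsum_eq fun m : ι → ℤ => ∫ x : ι → ℝ, latChar m x * g x] at hP
  simp only [hcoef, tsum_mul_left] at hP
  rw [← hP]
  refine tsum_congr fun n => ?_
  rw [hg, ← ofReal_intCast, qform_cast]

end Cfsg.ThetaSeries
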