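import Cfsg.Agent.ThetaSeries.Gaussian

/-! The theta series of an even unimodular form as a level one modular form. -/

set_option autoImplicit false
set_option linter.unusedSectionVars false

open Complex Matrix UpperHalfPlane ModularForm
open scoped Real MatrixGroups Manifold ModularForm

local notation "𝕢" => Function.Periodic.qParam

namespace Cfsg.ThetaSeries

variable {ι : Type*} [Fintype ι] [DecidableEq ι]

/-- An even unimodular form. -/
structure IsEvenUnimodular (A : Matrix ι ι ℤ) : Prop extends IsUnimodularForm A where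
  even : ∀ x : ι → ℤ, (2 : ℤ) ∣ x ⬝ᵥ (A *ᵥ x)

variable {A : Matrix ι ι ℤ}

/-- Half the norm, as a natural number. -/
def halfNorm (A : Matrix ι ι ℤ) (n : ι → ℤ) : ℕ := (qform A n / 2).toNat

lemma two_mul_halfNorm (hA : IsEvenUnimodular A) (n : ι → ℤ) :
    qform A n = 2 * (halfNorm A n : ℤ) := by
  obtain ⟨t, ht⟩ := hA.even n
  have h0 := qform_nonneg hA.toIsUnimodularForm n
  simp only [qform] at h0
  simp only [halfNorm, qform]
  omega

lemma halfNorm_eq_iff (hA : IsEvenUnimodular A) (n : ι → ℤ) (k : ℕ) :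
    halfNorm A n = k ↔ n ⬝ᵥ (A *ᵥ n) = 2 * (k : ℤ) := by
  have h := two_mul_halfNorm hA n
  simp only [qform] at h
  omega

/-- The number of vectors of norm `2 k`. -/
noncomputable def repCount (A : Matrix ι ι ℤ) (k : ℕ) : ℕ :=
  {x : ι → ℤ | x ⬝ᵥ (A *ᵥ x) = 2 * (k : ℤ)}.ncard

lemma finite_norm_eq (hA : IsUnimodularForm A) (t : ℤ) :
    {x : ι → ℤ | x ⬝ᵥ (A *ᵥ x) = t}.Finite := by
  obtain ⟨c, hc, hQ⟩ := exists_lower_bound hA
  obtain ⟨N, hN⟩ := exists_nat_ge ((t : ℝ) / c)
  refine (Set.Finite.pi' fun _ : ι => Set.finite_Icc (-(N : ℤ)) N).subset fun x hx i => ?_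
  have h1 := hQ (castVec x)
  rw [← qform_cast] at h1
  have hx' : qform A x = t := hx
  rw [hx'] at h1
  have h2 : (x i : ℝ) ^ 2 ≤ ∑ j, castVec x j ^ 2 :=
    Finset.single_le_sum (f := fun j => castVec x j ^ 2) (fun j _ => sq_nonneg _)
      (Finset.mem_univ i)
  have h3 : (t : ℝ) ≤ N * c := (div_le_iff₀ hc).1 hN
  have h4 : (x i : ℝ) ^ 2 ≤ (N : ℝ) := by nlinarith
  have h5 : x i ^ 2 ≤ (N : ℤ) := by exact_mod_cast h4
  have h6 : |x i| ≤ x i ^ 2 := by
    rcases eq_or_ne (x i) 0 with h | h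
    · simp [h]
    · rw [← sq_abs]; nlinarith [abs_pos.2 h]
  exact abs_le.1 (h6.trans h5)

/-- The theta function. -/
noncomputable def thetaFun (A : Matrix ι ι ℤ) (τ : ℍ) : ℂ :=
  ∑' n : ι → ℤ, cexp (-(-(π * Complex.I) * (τ : ℂ)) * (qform A n : ℂ))

lemma re_neg_pi_I_mul (z : ℂ) : (-(π * Complex.I) * z).re = π * z.im := by
  simp [mul_re]

lemma hasSum_thetaFun (hA : IsEvenUnimodular A) (τ : ℍ) :
    HasSum (fun k : ℕ => (repCount A k : ℂ) • 𝕢 1 τ ^ k) (thetaFun A τ) := by
  have hb : 0 < (-(π * Complex.I) * (τ : ℂ)).re := by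
    rw [re_neg_pi_I_mul]; exact mul_pos Real.pi_pos τ.coe_im_pos
  have h := (summable_gauss hA.toIsUnimodularForm hb).hasSum
  rw [← thetaFun, ← (Equiv.sigmaFiberEquiv (halfNorm A)).hasSum_iff] at h
  refine h.sigma fun k => ?_
  have hset : {n : ι → ℤ | halfNorm A n = k} = {x : ι → ℤ | x ⬝ᵥ (A *ᵥ x) = 2 * (k : ℤ)} :=
    Set.ext fun n => halfNorm_eq_iff hA n k
  have : Finite {n : ι → ℤ // halfNorm A n = k} := by
    have := finite_norm_eq hA.toIsUnimodularForm (2 * (k : ℤ))
    rw [← hset] at this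
    exact this.to_subtype
  have := Fintype.ofFinite {n : ι → ℤ // halfNorm A n = k}
  have hval : ∀ n : {n : ι → ℤ // halfNorm A n = k},
      cexp (-(-(π * Complex.I) * (τ : ℂ)) * (qform A n.1 : ℂ)) = 𝕢 1 τ ^ k := by
    intro n
    rw [Function.Periodic.qParam, ← Complex.exp_nat_mul, two_mul_halfNorm hA, n.2]
    congr 1
    push_cast
    ring
  have hs := hasSum_fintype fun n : {n : ι → ℤ // halfNorm A n = k} =>
    cexp (-(-(π * Complex.I) * (τ : ℂ)) * (qform A n.1 : ℂ))
  rw [Finset.sum_congr rfl fun n _ => hval n, Finset.sum_const, Finset.card_univ] at hs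
  have hc : Fintype.card {n : ι → ℤ // halfNorm A n = k} = repCount A k := by
    rw [repCount, ← hset, ← Nat.card_eq_fintype_card]
    rfl
  rw [hc, nsmul_eq_mul] at hs
  simpa [Function.comp_def, Equiv.sigmaFiberEquiv] using hs

lemma thetaFun_slash_T (hA : IsEvenUnimodular A) (k : ℤ) :
    thetaFun A ∣[k] ModularGroup.T = thetaFun A := by
  funext τ
  rw [SL_slash_apply]
  have e : denom (ModularGroup.T : GL (Fin 2) ℝ) τ = 1 := by
    simp [denom, ModularGroup.coe_T, Matrix.SpecialLinearGroup.map_apply_coe]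
  rw [e, _root_.one_zpow, mul_one]
  refine (hasSum_thetaFun hA (ModularGroup.T • τ)).unique ?_
  refine (hasSum_thetaFun hA τ).congr_fun fun m => ?_
  congr 2
  rw [modular_T_smul, Function.Periodic.qParam, Function.Periodic.qParam]
  refine Complex.exp_eq_exp_iff_exists_int.2 ⟨1, ?_⟩
  simp [mul_add]
  ring

lemma thetaFun_slash_S (hA : IsUnimodularForm A) {k : ℕ} (hk : Fintype.card ι = 2 * k)
    (h4 : 4 ∣ k) : thetaFun A ∣[(k : ℤ)] ModularGroup.S = thetaFun A := by
  funext τ
  have hτ : (τ : ℂ) ≠ 0 := ne_zero τ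
  have hb : 0 < (-(π * Complex.I) * (τ : ℂ)).re := by
    rw [re_neg_pi_I_mul]; exact mul_pos Real.pi_pos τ.coe_im_pos
  rw [SlashInvariantForm.slash_S_apply]
  conv_rhs => rw [thetaFun, gauss_transform hA hk hb]
  rw [mul_comm, thetaFun]
  congr 1
  · have hI : Complex.I ^ k = 1 := by
      obtain ⟨j, rfl⟩ := h4
      rw [pow_mul, I_pow_four, one_pow]
    have : (π : ℂ) / (-(π * Complex.I) * τ) = Complex.I * (τ : ℂ)⁻¹ := by
      field_simp [Complex.ofReal_ne_zero.2 Real.pi_ne_zero, hτ, I_ne_zero]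
      simp [I_sq]
    rw [this, mul_pow, hI, one_mul, _root_.zpow_neg, zpow_natCast, inv_pow]
  · refine tsum_congr fun n => ?_
    congr 2
    field_simp [Complex.ofReal_ne_zero.2 Real.pi_ne_zero, hτ, I_ne_zero]
    simp [I_sq]

lemma mdifferentiable_thetaFun (hA : IsUnimodularForm A) : MDiff (thetaFun A) := by
  rw [UpperHalfPlane.mdifferentiable_iff]
  intro z hz
  have hz' : 0 < z.im := hz
  let U : Set ℂ := {w : ℂ | z.im / 2 < w.im}
  have hU : IsOpen U := isOpen_lt continuous_const Complex.continuous_im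
  have hzU : z ∈ U := by show z.im / 2 < z.im; linarith
  have hd : DifferentiableOn ℂ
      (fun w : ℂ => ∑' n : ι → ℤ, cexp (-(-(π * Complex.I) * w) * (qform A n : ℂ))) U := by
    obtain ⟨u, hu, hu'⟩ := exists_gauss_bound hA
      (s := π * (z.im / 2)) (by positivity) 0
    refine differentiableOn_tsum_of_summable_norm hu (fun n => by fun_prop) hU fun n w hw => ?_
    have h2 := hu' 0 (by simp) n
    rw [zero_add, ← qform_cast] at h2
    refine le_trans ?_ h2
    rw [← ofReal_intCast, norm_cexp_neg_mul, re_neg_pi_I_mul, Real.exp_le_exp]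
    have h0 : (0 : ℝ) ≤ qform A n := by exact_mod_cast qform_nonneg hA n
    have hwU : z.im / 2 < w.im := hw
    have := mul_le_mul_of_nonneg_left hwU.le Real.pi_pos.le
    nlinarith [mul_le_mul_of_nonneg_right this h0]
  refine ((hd.differentiableAt (hU.mem_nhds hzU)).congr_of_eventuallyEq ?_).differentiableWithinAt
  filter_upwards [isOpen_upperHalfPlaneSet.mem_nhds hz'] with w hw
  simp [thetaFun, ofComplex_apply_of_im_pos hw]

/-- The theta series as a modular form. -/
noncomputable def thetaForm (hA : IsEvenUnimodular A) {k : ℕ} (hk : Fintype.card ι = 2 * k)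
    (h4 : 4 ∣ k) : ModularForm 𝒮ℒ (k : ℤ) where
  toFun := thetaFun A
  slash_action_eq' := by
    rintro _ ⟨γ, rfl⟩
    exact SlashInvariantForm.slash_action_generators_SL2Z
      (thetaFun_slash_S hA.toIsUnimodularForm hk h4) (thetaFun_slash_T hA _) γ
  holo' := mdifferentiable_thetaFun hA.toIsUnimodularForm
  bdd_at_cusps' {c} hc := by
    rw [OnePoint.isBoundedAt_iff_forall_SL2Z hc]
    intro γ _
    rw [SlashInvariantForm.slash_action_generators_SL2Z
      (thetaFun_slash_S hA.toIsUnimodularForm hk h4) (thetaFun_slash_T hA _) γ]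
    exact UpperHalfPlane.isBoundedAtImInfty_of_hasSum_qExpansion one_pos (hasSum_thetaFun hA)

lemma thetaForm_qExpansion_coeff (hA : IsEvenUnimodular A) {k : ℕ}
    (hk : Fintype.card ι = 2 * k) (h4 : 4 ∣ k) (m : ℕ) :
    (qExpansion 1 (thetaForm hA hk h4)).coeff m = (repCount A m : ℂ) :=
  (ModularFormClass.qExpansion_coeff_unique (f := thetaForm hA hk h4) one_pos
    one_mem_strictPeriods_SL (fun τ => hasSum_thetaFun hA τ) m).symm

lemma repCount_zero (hA : IsEvenUnimodular A) : repCount A 0 = 1 := by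
  rw [repCount, Set.ncard_eq_one]
  refine ⟨0, Set.ext fun x => ⟨fun h => ?_, fun h => ?_⟩⟩
  · by_contra hx
    have := hA.pos x hx
    simp only [Set.mem_ofPred_eq, Nat.cast_zero, mul_zero] at h
    omega
  · rw [Set.mem_singleton_iff.1 h]
    simp

end Cfsg.ThetaSeries
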