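import Mathlib

/-! Poisson summation over `ℤ^ι` for continuous functions with summable periodization. -/

set_option autoImplicit false
set_option linter.unusedSectionVars false

open MeasureTheory Complex Set
open scoped Real

namespace Cfsg.ThetaSeries

variable {ι : Type*} [Fintype ι]

/-- The real vector underlying an integral one. -/
def castVec (n : ι → ℤ) : ι → ℝ := fun i => (n i : ℝ)

/-- The half open unit box at a lattice point. -/
def unitBox (n : ι → ℤ) : Set (ι → ℝ) :=
  {x | ∀ i, x i ∈ Ioc (n i : ℝ) ((n i : ℝ) + 1)}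

lemma unitBox_eq_pi (n : ι → ℤ) :
    unitBox n = Set.pi univ fun i => Ioc (n i : ℝ) ((n i : ℝ) + 1) := by
  ext x
  simp [unitBox]

lemma measurableSet_unitBox (n : ι → ℤ) : MeasurableSet (unitBox n) := by
  rw [unitBox_eq_pi]
  exact MeasurableSet.univ_pi fun _ => measurableSet_Ioc

lemma iUnion_unitBox : (⋃ n : ι → ℤ, unitBox n) = univ := by
  refine eq_univ_of_forall fun x => mem_iUnion.2 ⟨fun i => ⌈x i⌉ - 1, fun i => ?_⟩
  have h1 := Int.le_ceil (x i)
  have h2 := Int.ceil_lt_add_one (x i)
  constructor <;> push_cast <;> linarith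

lemma pairwise_disjoint_unitBox :
    Pairwise (Function.onFun Disjoint (unitBox (ι := ι))) := by
  intro m n hmn
  rw [Function.onFun, Set.disjoint_left]
  intro x hm hn
  apply hmn
  funext i
  obtain ⟨a1, a2⟩ := hm i
  obtain ⟨b1, b2⟩ := hn i
  have e1 : (m i : ℝ) < ((n i + 1 : ℤ) : ℝ) := by push_cast; linarith
  have e2 : (n i : ℝ) < ((m i + 1 : ℤ) : ℝ) := by push_cast; linarith
  have f1 := Int.cast_lt.1 e1
  have f2 := Int.cast_lt.1 e2
  omega

lemma preimage_unitBox (n : ι → ℤ) :
    (fun x : ι → ℝ => x + castVec n) ⁻¹' unitBox n = unitBox 0 := by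
  ext x
  simp only [mem_preimage, unitBox, mem_ofPred_eq, Pi.add_apply, castVec, mem_Ioc, Pi.zero_apply,
    Int.cast_zero, zero_add]
  refine forall_congr' fun i => ?_
  constructor <;> rintro ⟨h1, h2⟩ <;> constructor <;> linarith

lemma norm_le_one_of_mem_unitBox {x : ι → ℝ} (hx : x ∈ unitBox 0) : ‖x‖ ≤ 1 := by
  refine (pi_norm_le_iff_of_nonneg zero_le_one).2 fun i => ?_
  obtain ⟨h1, h2⟩ := hx i
  simp only [Pi.zero_apply, Int.cast_zero, zero_add] at h1 h2
  rw [Real.norm_eq_abs, abs_le]
  constructor <;> linarith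

/-- The character `x ↦ exp (-2πi m·x)`. -/
noncomputable def latChar (m : ι → ℤ) (x : ι → ℝ) : ℂ :=
  cexp (-(2 * π * I) * ∑ i, (m i : ℂ) * (x i : ℂ))

lemma mFourier_neg_coe (m : ι → ℤ) (x : ι → ℝ) :
    UnitAddTorus.mFourier (-m) (fun i => (x i : UnitAddCircle)) = latChar m x := by
  simp only [UnitAddTorus.mFourier, ContinuousMap.coe_mk, fourier_coe_apply]
  rw [latChar, Finset.mul_sum, Complex.exp_sum]
  refine Finset.prod_congr rfl fun i _ => ?_
  congr 1
  push_cast [Pi.neg_apply]
  ring

lemma norm_latChar (m : ι → ℤ) (x : ι → ℝ) : ‖latChar m x‖ = 1 := by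
  rw [latChar, Complex.norm_exp]
  simp

lemma latChar_add_castVec (m n : ι → ℤ) (x : ι → ℝ) :
    latChar m (x + castVec n) = latChar m x := by
  rw [latChar, latChar]
  refine Complex.exp_eq_exp_iff_exists_int.2 ⟨-∑ i, m i * n i, ?_⟩
  simp only [Pi.add_apply, castVec, ofReal_add, ofReal_intCast, mul_add, Finset.sum_add_distrib]
  push_cast
  ring

lemma continuous_latChar (m : ι → ℤ) : Continuous (latChar m) := by
  unfold latChar
  fun_prop

/-- Poisson summation on `ℤ^ι`. -/
theorem poisson_summation_pi (g : (ι → ℝ) → ℂ) (hg : Continuous g) (hint : Integrable g)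
    (hb : ∀ R : ℝ, ∃ u : (ι → ℤ) → ℝ, Summable u ∧
      ∀ x : ι → ℝ, ‖x‖ ≤ R → ∀ n, ‖g (x + castVec n)‖ ≤ u n)
    (hsum : Summable fun m : ι → ℤ => ∫ x : ι → ℝ, latChar m x * g x) :
    ∑' n : ι → ℤ, g (castVec n) = ∑' m : ι → ℤ, ∫ x : ι → ℝ, latChar m x * g x := by
  classical
  -- the periodization
  set G : (ι → ℝ) → ℂ := fun x => ∑' n : ι → ℤ, g (x + castVec n) with hG
  have hGsum : ∀ x : ι → ℝ, Summable fun n => g (x + castVec n) := by
    intro x
    obtain ⟨u, hu, hu'⟩ := hb ‖x‖
    exact hu.of_norm_bounded fun n => hu' x le_rfl n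
  have hGcont : Continuous G := by
    refine continuous_iff_continuousAt.2 fun x => ?_
    obtain ⟨u, hu, hu'⟩ := hb (‖x‖ + 1)
    have hC : ContinuousOn G {y : ι → ℝ | ‖y‖ ≤ ‖x‖ + 1} :=
      continuousOn_tsum (fun n => (hg.comp (continuous_add_const _)).continuousOn) hu
        fun n y hy => hu' y hy n
    exact hC.continuousAt (Filter.mem_of_superset
      ((isOpen_lt continuous_norm continuous_const).mem_nhds (by simp : ‖x‖ < ‖x‖ + 1))
      fun y hy => le_of_lt (show ‖y‖ < ‖x‖ + 1 from hy))
  have hGper : ∀ (x : ι → ℝ) (n : ι → ℤ), G (x + castVec n) = G x := by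
    intro x n
    simp only [hG]
    rw [← (Equiv.addLeft n).tsum_eq fun k => g (x + castVec k)]
    refine tsum_congr fun k => ?_
    congr 1
    funext i
    simp [castVec, add_assoc]
  -- descend to the torus
  let P : (ι → ℝ) → UnitAddTorus ι := Pi.map fun _ (t : ℝ) => (t : UnitAddCircle)
  have hP : IsOpenQuotientMap P :=
    IsOpenQuotientMap.piMap fun _ => QuotientAddGroup.isOpenQuotientMap_mk
  have hfac : ∀ x y, P x = P y → G x = G y := by
    intro x y hxy
    have hi : ∀ i, ∃ k : ℤ, x i = y i + k := by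
      intro i
      have h := congrFun hxy i
      simp only [P, Pi.map_apply] at h
      obtain ⟨k, hk⟩ := AddSubgroup.mem_zmultiples_iff.1 (QuotientAddGroup.eq.1 h.symm)
      refine ⟨k, ?_⟩
      simp only [zsmul_eq_mul, mul_one] at hk
      linarith
    choose k hk using hi
    have : x = y + castVec k := funext fun i => by simp [castVec, hk i]
    rw [this, hGper]
  obtain ⟨F, hF⟩ : ∃ F : C(UnitAddTorus ι, ℂ), ∀ x, F (P x) = G x := by
    let F0 : UnitAddTorus ι → ℂ := fun t => G (Function.surjInv hP.surjective t)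
    have h0 : ∀ x, F0 (P x) = G x := fun x =>
      hfac _ _ (Function.surjInv_eq hP.surjective (P x))
    refine ⟨⟨F0, ?_⟩, h0⟩
    rw [← hP.continuous_comp_iff]
    exact hGcont.congr fun x => (h0 x).symm
  -- Fourier coefficients
  have hcoef : ∀ m, UnitAddTorus.mFourierCoeff F m = ∫ x : ι → ℝ, latChar m x * g x := by
    intro m
    rw [UnitAddTorus.mFourierCoeff_eq_integral F m fun _ => 0]
    have hset : {x : ι → ℝ | ∀ i, x i ∈ Ioc (0 : ℝ) (0 + 1)} = unitBox 0 := by
      simp [unitBox]
    rw [hset]
    have hint' : Integrable fun x : ι → ℝ => latChar m x * g x :=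
      hint.bdd_mul (continuous_latChar m).aestronglyMeasurable
        (Filter.Eventually.of_forall fun x => (norm_latChar m x).le)
    obtain ⟨u, hu, hu'⟩ := hb 1
    have hfin : volume (unitBox (0 : ι → ℤ)) < ⊤ := by
      rw [unitBox_eq_pi, volume_pi_pi]
      exact ENNReal.prod_lt_top fun i _ => by simp
    have : IsFiniteMeasure (volume.restrict (unitBox (0 : ι → ℤ))) :=
      ⟨by rwa [Measure.restrict_apply_univ]⟩
    have hA : HasSum (fun n => ∫ x in unitBox (0 : ι → ℤ), latChar m x * g (x + castVec n))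
        (∫ x in unitBox (0 : ι → ℤ), latChar m x * G x) := by
      refine hasSum_integral_of_dominated_convergence (fun n _ => u n)
        (fun n => ((continuous_latChar m).mul
          (hg.comp (continuous_add_const _))).aestronglyMeasurable) (fun n => ?_)
        (Filter.Eventually.of_forall fun _ => hu) (integrable_const _)
        (Filter.Eventually.of_forall fun x => ((hGsum x).hasSum).mul_left _)
      filter_upwards [ae_restrict_mem (measurableSet_unitBox _)] with x hx
      rw [norm_mul, norm_latChar, one_mul]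
      exact hu' x (norm_le_one_of_mem_unitBox hx) n
    have hB : HasSum (fun n => ∫ x in unitBox (0 : ι → ℤ), latChar m x * g (x + castVec n))
        (∫ x : ι → ℝ, latChar m x * g x) := by
      have h := hasSum_integral_iUnion (fun n => measurableSet_unitBox n)
        pairwise_disjoint_unitBox (hint'.integrableOn (s := ⋃ n : ι → ℤ, unitBox n))
      rw [iUnion_unitBox, setIntegral_univ] at h
      refine h.congr_fun fun n => ?_
      rw [← (measurePreserving_add_right volume (castVec n)).setIntegral_preimage_emb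
        (measurableEmbedding_addRight _) (fun x => latChar m x * g x) (unitBox n),
        preimage_unitBox]
      simp only [latChar_add_castVec]
    rw [← hA.unique hB]
    refine integral_congr_ae (Filter.Eventually.of_forall fun x => ?_)
    simp only [smul_eq_mul, mFourier_neg_coe, ← hF]
    rfl
  have h := UnitAddTorus.hasSum_mFourier_series_apply_of_summable
    (f := F) (by rw [show UnitAddTorus.mFourierCoeff F = _ from funext hcoef]; exact hsum) (P 0)
  rw [hF] at h
  have e : G 0 = ∑' n : ι → ℤ, g (castVec n) := by simp [hG]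
  rw [← e, ← h.tsum_eq]
  refine tsum_congr fun m => ?_
  have : UnitAddTorus.mFourier m (P 0) = 1 := by
    simp [UnitAddTorus.mFourier, P]
  rw [this, smul_eq_mul, mul_one, hcoef]

end Cfsg.ThetaSeries
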